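import Cfsg.Agent.LyMult.Data

/-! Checks of the identities between words in degree 111, part 1. -/

set_option autoImplicit false
set_option maxRecDepth 100000

namespace CfsgLib.LyMult

open CfsgLib.LyG2 CfsgLib.LyG2.Rep

theorem cert78_ok : chkWords 111 Rep.tabs cert78 = true := by decide +kernel

theorem cert79_ok : chkWords 111 Rep.tabs cert79 = true := by decide +kernel

theorem cert80_ok : chkWords 111 Rep.tabs cert80 = true := by decide +kernel

end CfsgLib.LyMult
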