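import Cfsg.Agent.LyMult.Data

/-! Checks of the identities between words in degree 111, part 2. -/

set_option autoImplicit false
set_option maxRecDepth 100000

namespace CfsgLib.LyMult

open CfsgLib.LyG2 CfsgLib.LyG2.Rep

theorem cert84_ok : chkWords 111 Rep.tabs cert84 = true := by decide +kernel

theorem certC_ok : chkWords 111 Rep.tabs certC = true := by decide +kernel

end CfsgLib.LyMult
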