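import Cfsg.Agent.LyMult.Data

/-! Checks of the identities between words in degree 111, part 6. -/

set_option autoImplicit false
set_option maxRecDepth 100000

namespace CfsgLib.LyMult

open CfsgLib.LyG2 CfsgLib.LyG2.Rep

theorem certMb_ok : chkWords 111 Rep.tabs (certM.drop 10) = true := by decide +kernel

end CfsgLib.LyMult
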