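import Cfsg.Agent.LyMult.Rels

/-!
Conjugation by `z` of the stabilizer of a coset in the short suborbit, and relator 83.
-/

set_option autoImplicit false
set_option maxRecDepth 100000

namespace CfsgLib.LyMult

open CfsgLib.CosetEnum CfsgLib.LyG2 Cfsg.Spor

/-- The scalar equations between the five defects force them to vanish. -/
theorem defect_alg {G : Type*} [Group G] {Y c c2 c3 c4 a q1 q2 q3 q4 A ζ1 ζ2 ζ3 ζ4 : G}
    (h1z : ζ1 ∈ Subgroup.center G) (h2z : ζ2 ∈ Subgroup.center G)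
    (h3z : ζ3 ∈ Subgroup.center G) (h4z : ζ4 ∈ Subgroup.center G)
    (hA : Y * a * Y⁻¹ = A) (h1 : Y * c * Y⁻¹ = q1 * ζ1) (h2 : Y * c2 * Y⁻¹ = q2 * ζ2)
    (h3 : Y * c3 * Y⁻¹ = q3 * ζ3) (h4 : Y * c4 * Y⁻¹ = q4 * ζ4)
    (c5 : c ^ 5 = 1) (c35 : c3 ^ 5 = 1) (q5 : q1 ^ 5 = 1) (q35 : q3 ^ 5 = 1)
    (r2 : c2 = a⁻¹ * c * a) (s2 : q2 = A⁻¹ * q1 * A)
    (r2' : a⁻¹ * c2 * a = c⁻¹ * c⁻¹) (s2' : A⁻¹ * q2 * A = q1⁻¹ * q1⁻¹)
    (r3 : a⁻¹ * c3 * a = c3⁻¹ * c3⁻¹ * c * c4) (s3 : A⁻¹ * q3 * A = q3⁻¹ * q3⁻¹ * q1 * q4)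
    (r4 : a⁻¹ * c4 * a = c * c2⁻¹ * c3⁻¹ * c4 * c * c4)
    (s4 : A⁻¹ * q4 * A = q1 * q2⁻¹ * q3⁻¹ * q4 * q1 * q4) :
    ζ1 = 1 ∧ ζ2 = 1 ∧ ζ3 = 1 ∧ ζ4 = 1 := by
  let φ : G →* G := (MulAut.conj Y).toMonoidHom
  have hφ : ∀ x, φ x = Y * x * Y⁻¹ := fun x => rfl
  have ca : φ a = A := hA
  have e1 : φ c = q1 * ζ1 := h1
  have e2 : φ c2 = q2 * ζ2 := h2
  have e3 : φ c3 = q3 * ζ3 := h3
  have e4 : φ c4 = q4 * ζ4 := h4
  have z1 : ∀ x, Commute ζ1 x := fun x => (Subgroup.mem_center_iff.1 h1z x).symm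
  have z2 : ∀ x, Commute ζ2 x := fun x => (Subgroup.mem_center_iff.1 h2z x).symm
  have z3 : ∀ x, Commute ζ3 x := fun x => (Subgroup.mem_center_iff.1 h3z x).symm
  have z4 : ∀ x, Commute ζ4 x := fun x => (Subgroup.mem_center_iff.1 h4z x).symm
  have pull : ∀ {ζ : G}, (∀ x, Commute ζ x) → ∀ x q, x⁻¹ * (q * ζ) * x = x⁻¹ * q * x * ζ := by
    intro ζ hc x q
    rw [← mul_assoc x⁻¹ q ζ, mul_assoc _ ζ x, (hc x).eq]
    simp only [mul_assoc]
  have k15 : ζ1 ^ 5 = 1 := by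
    have := congrArg φ c5
    rw [map_pow, map_one, e1, (z1 q1).symm.mul_pow, q5, one_mul] at this
    exact this
  have k35 : ζ3 ^ 5 = 1 := by
    have := congrArg φ c35
    rw [map_pow, map_one, e3, (z3 q3).symm.mul_pow, q35, one_mul] at this
    exact this
  have k21 : ζ2 = ζ1 := by
    have := congrArg φ r2
    rw [map_mul, map_mul, map_inv, e1, e2, ca, pull z1, ← s2] at this
    exact mul_left_cancel this
  subst k21
  have k1 : ζ2 = 1 := by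
    have := congrArg φ r2'
    simp only [map_mul, map_inv, e1, e2, ca] at this
    rw [pull z2, s2', mul_inv_rev, (z2 q1⁻¹).inv_left.eq,
      show q1⁻¹ * ζ2⁻¹ * (q1⁻¹ * ζ2⁻¹) = q1⁻¹ * (ζ2⁻¹ * q1⁻¹) * ζ2⁻¹ by group,
      (z2 q1⁻¹).inv_left.eq, ← mul_assoc, mul_assoc _ ζ2⁻¹] at this
    have k3 : ζ2 ^ 3 = 1 := by
      calc ζ2 ^ 3 = ζ2 * ζ2 * ζ2 := by rw [pow_succ, pow_two]
        _ = ζ2 * ζ2 * (ζ2⁻¹ * ζ2⁻¹) := congrArg _ (mul_left_cancel this)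
        _ = 1 := by group
    have := pow_gcd_eq_one.2 ⟨k3, k15⟩
    rwa [show Nat.gcd 3 5 = 1 from rfl, pow_one] at this
  subst k1
  rw [mul_one] at e1 e2
  have k43 : ζ4 = ζ3 ^ 3 := by
    have := congrArg φ r3
    simp only [map_mul, map_inv, e1, e3, e4, ca] at this
    rw [pull z3, s3] at this
    have : q3⁻¹ * q3⁻¹ * q1 * q4 * ζ3 = q3⁻¹ * q3⁻¹ * q1 * q4 * (ζ3⁻¹ * ζ3⁻¹ * ζ4) := by
      rw [this, mul_inv_rev, (z3 q3⁻¹).inv_left.eq]
      simp only [mul_assoc]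
      rw [← mul_assoc ζ3⁻¹ q3⁻¹, (z3 q3⁻¹).inv_left.eq, mul_assoc,
        ← mul_assoc ζ3⁻¹ ζ3⁻¹, ← mul_assoc (ζ3⁻¹ * ζ3⁻¹) q1, ((z3 q1).inv_left.mul_left (z3 q1).inv_left).eq,
        mul_assoc, ← mul_assoc (ζ3⁻¹ * ζ3⁻¹) q4, ((z3 q4).inv_left.mul_left (z3 q4).inv_left).eq]
      simp only [mul_assoc]
    have := mul_left_cancel this
    calc ζ4 = ζ3 * ζ3 * (ζ3⁻¹ * ζ3⁻¹ * ζ4) := by group
      _ = ζ3 ^ 3 := by rw [← this, pow_succ, pow_two]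
  have k4 : ζ4 = ζ3 := by
    have := congrArg φ r4
    simp only [map_mul, map_inv, e1, e2, e3, e4, ca] at this
    rw [pull z4, s4] at this
    have : q1 * q2⁻¹ * q3⁻¹ * q4 * q1 * q4 * ζ4 = q1 * q2⁻¹ * q3⁻¹ * q4 * q1 * q4 * (ζ3⁻¹ * ζ4 * ζ4) := by
      rw [this, mul_inv_rev, (z3 q3⁻¹).inv_left.eq]
      simp only [mul_assoc]
      rw [← mul_assoc ζ3⁻¹ q4, (z3 q4).inv_left.eq, mul_assoc,
        ← mul_assoc ζ3⁻¹ ζ4, ← mul_assoc (ζ3⁻¹ * ζ4) q1, ((z3 q1).inv_left.mul_left (z4 q1)).eq,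
        mul_assoc, ← mul_assoc (ζ3⁻¹ * ζ4) q4, ((z3 q4).inv_left.mul_left (z4 q4)).eq]
      simp only [mul_assoc]
    have := mul_left_cancel this
    nth_rewrite 1 [← one_mul ζ4] at this
    exact (eq_of_inv_mul_eq_one (mul_right_cancel this).symm).symm
  subst k4
  have k3 : ζ4 ^ 2 = 1 := mul_left_cancel (a := ζ4) (by rw [← pow_succ', mul_one, ← k43])
  have := pow_gcd_eq_one.2 ⟨k3, k35⟩
  rw [show Nat.gcd 2 5 = 1 from rfl, pow_one] at this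
  exact ⟨rfl, rfl, this, this⟩

/-- The triangle relation from the conjugation. -/
theorem tri {G : Type*} [Group G] {z a A P Q R J K : G} (hA : A * A = a * a) (hzz : z * z = a * a)
    (h3 : (A * z) ^ 3 * (a * a) = 1)
    (hp : z * P * J⁻¹ * A⁻¹ * z⁻¹ *
        (a⁻¹ * a⁻¹ * a⁻¹ * a⁻¹ * a⁻¹ * a⁻¹ * A⁻¹ * (a * a) *
          (z⁻¹ * (A * (z⁻¹ * J * z) * K * J⁻¹ * A⁻¹) * z) * (a⁻¹ * a⁻¹)) *
        (z * P * J⁻¹ * A⁻¹ * z⁻¹)⁻¹ = R⁻¹ * (z⁻¹ * (Q⁻¹ * K * P⁻¹) * z) * (a⁻¹ * a⁻¹)) :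
    R * z * P * z * Q * z = 1 := by
  have hu : a * a = z * z := hzz.symm
  have e6 : a⁻¹ * a⁻¹ * a⁻¹ * a⁻¹ * a⁻¹ * a⁻¹ * A⁻¹ =
      z * A * z * (z * A)⁻¹ := by
    have hAu : Commute A (a * a) := by
      rw [← hA]; exact (Commute.refl A).mul_right (Commute.refl A)
    have hzu : Commute z (a * a) := by
      rw [← hzz]; exact (Commute.refl z).mul_right (Commute.refl z)
    have e3 : z * A * z = A⁻¹ * (a * a)⁻¹ * z⁻¹ * A⁻¹ := by
      calc z * A * z = A⁻¹ * ((A * z) ^ 3 * (a * a)) * (a * a)⁻¹ * z⁻¹ * A⁻¹ := by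
            rw [pow_succ, pow_two]; group
        _ = _ := by rw [h3, mul_one]
    symm
    calc z * A * z * (z * A)⁻¹ = z * A * z * A⁻¹ * z⁻¹ := by group
      _ = A⁻¹ * (a * a)⁻¹ * z⁻¹ * (A * A)⁻¹ * z⁻¹ := by rw [e3]; group
      _ = A⁻¹ * (a * a)⁻¹ * (z * (a * a) * z)⁻¹ := by rw [hA]; group
      _ = A⁻¹ * ((a * a) ^ 3)⁻¹ := by rw [hzu.eq, mul_assoc (a * a) z z, hzz, pow_succ, pow_two]; group
      _ = ((a * a) ^ 3)⁻¹ * A⁻¹ := ((hAu.pow_right 3).inv_inv).eq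
      _ = _ := by rw [pow_succ, pow_two]; group
  rw [e6, hu] at hp
  have k : z * P * z * K * P⁻¹ * z⁻¹ = R⁻¹ * z⁻¹ * Q⁻¹ * K * P⁻¹ * z⁻¹ := by
    have ha : a⁻¹ * a⁻¹ = z⁻¹ * z⁻¹ := by rw [← mul_inv_rev, hu, mul_inv_rev]
    rw [ha] at hp
    calc z * P * z * K * P⁻¹ * z⁻¹ = _ := by group
      _ = _ := hp
      _ = _ := by group
  have k2 : z * P * z = R⁻¹ * z⁻¹ * Q⁻¹ := mul_right_cancel (b := K * P⁻¹ * z⁻¹) (by
    simpa only [mul_assoc] using k)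
  calc R * z * P * z * Q * z = R * (z * P * z) * (Q * z) := by group
    _ = 1 := by rw [k2]; group

namespace Lift

variable {Γ : Type*} [Group Γ] (L : Lift Γ) [IsSimpleGroup Cfsg.Spor.Ly]

theorem conj_c : L.E [9] * L.E [4] * (L.E [9])⁻¹ = L.E w_x162 ∧
    L.E [9] * L.E w_c2 * (L.E [9])⁻¹ = L.E w_x163 ∧
    L.E [9] * L.E w_c3 * (L.E [9])⁻¹ = L.E w_x164 ∧
    L.E [9] * L.E w_c4 * (L.E [9])⁻¹ = L.E w_x165 ∧
    L.E [9] * L.E w_c5 * (L.E [9])⁻¹ = L.E w_x166 := by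
  obtain ⟨ζ1, m1, e1⟩ := L.defect (Y := [9]) (h := [4]) (p := w_x162) (by simp [certs, certC])
  obtain ⟨ζ2, m2, e2⟩ := L.defect (Y := [9]) (h := w_c2) (p := w_x163) (by simp [certs, certC])
  obtain ⟨ζ3, m3, e3⟩ := L.defect (Y := [9]) (h := w_c3) (p := w_x164) (by simp [certs, certC])
  obtain ⟨ζ4, m4, e4⟩ := L.defect (Y := [9]) (h := w_c4) (p := w_x165) (by simp [certs, certC])
  have hA : L.E [9] * L.E [0] * (L.E [9])⁻¹ = L.E w_x167 := by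
    rw [E9, E0, inv_inv]; exact L.conj78
  have hp : ∀ {h : List ℕ}, low (pw 5 h) = true → pw 5 h ∈ certs → L.E h ^ 5 = 1 := fun hl hm => by
    rw [← L.E_pw]; exact L.eq_one_of_low hl hm
  have E1' : L.E [1] = (L.E [0])⁻¹ := by rw [E1, E0]
  have r2 : L.E w_c2 = (L.E [0])⁻¹ * L.E [4] * L.E [0] := by
    rw [show w_c2 = [1] ++ [4] ++ [0] from rfl, E_append, E_append, E1']
  have s2 := L.eq_of_low (u := w_x163) (v := inw w_x167 ++ w_x162 ++ w_x167) (by decide +kernel)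
    (by simp [certs, certC])
  have r2' := L.eq_of_low (u := [1] ++ w_c2 ++ [0]) (v := inw [4] ++ inw [4]) (by decide +kernel)
    (by simp [certs, certC])
  have s2' := L.eq_of_low (u := inw w_x167 ++ w_x163 ++ w_x167) (v := inw w_x162 ++ inw w_x162)
    (by decide +kernel) (by simp [certs, certC])
  have r3 := L.eq_of_low (u := [1] ++ w_c3 ++ [0]) (v := inw w_c3 ++ inw w_c3 ++ [4] ++ w_c4)
    (by decide +kernel) (by simp [certs, certC])
  have s3 := L.eq_of_low (u := inw w_x167 ++ w_x164 ++ w_x167)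
    (v := inw w_x164 ++ inw w_x164 ++ w_x162 ++ w_x165) (by decide +kernel) (by simp [certs, certC])
  have r4 := L.eq_of_low (u := [1] ++ w_c4 ++ [0])
    (v := [4] ++ inw w_c2 ++ inw w_c3 ++ w_c4 ++ [4] ++ w_c4)
    (by decide +kernel) (by simp [certs, certC])
  have s4 := L.eq_of_low (u := inw w_x167 ++ w_x165 ++ w_x167)
    (v := w_x162 ++ inw w_x163 ++ inw w_x164 ++ w_x165 ++ w_x162 ++ w_x165)
    (by decide +kernel) (by simp [certs, certC])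
  simp only [E_append, E_inw, E1'] at s2 r2' s2' r3 s3 r4 s4
  obtain ⟨z1, z2, z3, z4⟩ := defect_alg m1 m2 m3 m4 hA e1 e2 e3 e4
    (hp (by decide +kernel) (by simp [certs, certC])) (hp (by decide +kernel) (by simp [certs, certC]))
    (hp (by decide +kernel) (by simp [certs, certC])) (hp (by decide +kernel) (by simp [certs, certC]))
    r2 s2 r2' s2' r3 s3 r4 s4
  rw [z1, mul_one] at e1
  rw [z2, mul_one] at e2
  rw [z3, mul_one] at e3
  rw [z4, mul_one] at e4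
  refine ⟨e1, e2, e3, e4, ?_⟩
  have s5 := L.eq_of_low (u := w_x166) (v := inw w_x162 ++ inw w_x163 ++ w_x162 ++ w_x163)
    (by decide +kernel) (by simp [certs, certC])
  rw [show w_c5 = inw [4] ++ inw w_c2 ++ [4] ++ w_c2 from rfl, s5]
  simp only [E_append, E_inw]
  rw [← e1, ← e2]
  group

theorem conj_kg (i : ℕ) : L.E [9] * L.E (kg i) * (L.E [9])⁻¹ = L.E (ph i) := by
  obtain ⟨h1, h2, h3, h4, -⟩ := L.conj_c
  match i with
  | 0 => exact h1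
  | 1 => exact h2
  | 2 => exact h3
  | 3 => exact h4
  | 4 =>
    show L.E [9] * L.E [0] * _ = L.E w_x167
    rw [E9, E0, inv_inv]; exact L.conj78
  | 5 => exact L.conj79
  | _ + 6 => exact L.conj80

/-- Conjugation by `z` of a product of generators of the stabilizer. -/
theorem conj_kw (l : List (ℕ × Bool)) :
    L.E [9] * L.E (kw kg l) * (L.E [9])⁻¹ = L.E (kw ph l) := by
  induction l with
  | nil => simp [kw, E_nil]
  | cons p l ih =>
    have e : ∀ f : ℕ → List ℕ,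
        L.E (kw f (p :: l)) = (bif p.2 then L.E (f p.1) else (L.E (f p.1))⁻¹) * L.E (kw f l) := by
      intro f
      rw [kw, List.flatMap_cons, E_append]
      cases p.2 <;> simp [kw, E_inw]
    rw [e, e, ← ih, ← L.conj_kg]
    cases p.2 <;> simp only [cond_true, cond_false] <;> group

/-- The value at `z` of relator 83. -/
theorem rel83 (hL : L.om1 = L.om2) :
    L.E w_x47 * L.f 4 * L.E w_x364 * L.f 4 * L.E w_x368 * L.f 4 = 1 := by
  obtain ⟨hzz, hz3⟩ := L.z_relators hL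
  have hA2 : L.E w_a4 * L.E w_a4 = L.f 0 * L.f 0 := by
    have := L.eq_of_low (u := w_a4 ++ w_a4) (v := [0, 0]) (by decide +kernel) (by simp [certs, certM])
    rwa [E_append, E00] at this
  have eI : ∀ l, (L.f 4)⁻¹ * L.E (kw kg l) * L.f 4 = L.E (kw ph l) := fun l => by
    rw [← L.conj_kw l, E9, inv_inv]
  have hk : L.E k83 * L.E h83 * (L.E k83)⁻¹ = L.E (kw kg xIx) :=
    L.conj_of_low (by decide +kernel) (by simp [certs, certM])
  have he : L.E e83 * L.E [0, 0] * L.E (kw ph xIx) * (L.E [0, 0])⁻¹ * (L.E e83)⁻¹ = L.E p83 := by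
    have := L.eq_of_low (u := e83 ++ [0, 0] ++ kw ph xIx ++ inw [0, 0] ++ inw e83) (v := p83)
      (by decide +kernel) (by simp [certs, certM])
    simpa only [E_append, E_inw] using this
  have hy := L.mem_center_of_cert (w := y83 ++ inw (e83 ++ [8] ++ k83)) (by simp [certs, certM])
  rw [E_append, E_inw, E_append, E_append, E8] at hy
  have hc : L.E y83 * L.E h83 * (L.E y83)⁻¹ =
      L.E e83 * L.f 4 * L.E k83 * L.E h83 * (L.E e83 * L.f 4 * L.E k83)⁻¹ := by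
    have hzc := Subgroup.mem_center_iff.1 hy
    generalize L.E e83 * L.f 4 * L.E k83 = g at hzc ⊢
    generalize L.E y83 = y at hzc ⊢
    calc y * L.E h83 * y⁻¹ = y * g⁻¹ * (g * L.E h83 * g⁻¹) * (y * g⁻¹)⁻¹ := by group
      _ = g * L.E h83 * g⁻¹ := by rw [← hzc, mul_inv_cancel_right]
  have hp : L.E y83 * L.E h83 * (L.E y83)⁻¹ = L.E p83 := by
    rw [hc, ← he, E00, ← eI, ← hk, ← hzz]
    group
  have hM : L.E (kw kg mpIx) = L.E w_a4 * L.E (kw ph jIx) * L.E k0 * (L.E (kw kg jIx))⁻¹ *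
      (L.E w_a4)⁻¹ := by
    have := L.eq_of_low (u := kw kg mpIx)
      (v := w_a4 ++ kw ph jIx ++ k0 ++ inw (kw kg jIx) ++ inw w_a4) (by decide +kernel)
      (by simp [certs, certM])
    simpa only [E_append, E_inw] using this
  have hM1 : L.E (kw kg m1Ix) = (L.E w_x368)⁻¹ * L.E k0 * (L.E w_x364)⁻¹ := by
    have := L.eq_of_low (u := kw kg m1Ix) (v := inw w_x368 ++ k0 ++ inw w_x364) (by decide +kernel)
      (by simp [certs, certM])
    simpa only [E_append, E_inw] using this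
  rw [show y83 = [8] ++ w_x364 ++ inw (kw kg jIx) ++ inw w_a4 ++ [9] from rfl,
    show h83 = [1] ++ [1] ++ [1] ++ [1] ++ [1] ++ [1] ++ inw w_a4 ++ [0, 0] ++ kw ph mpIx ++
      ([1] ++ [1]) from rfl,
    show p83 = inw w_x47 ++ kw ph m1Ix ++ ([1] ++ [1]) from rfl] at hp
  simp only [E_append, E_inw, E8, E9, E00, E1, ← eI, hM, hM1] at hp
  generalize L.f 4 = z at *
  generalize L.f 0 = a at *
  generalize L.E w_a4 = A at *
  generalize L.E w_x364 = P at *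
  generalize L.E w_x368 = Q at *
  generalize L.E w_x47 = R at *
  generalize L.E k0 = K0 at *
  generalize L.E (kw kg jIx) = J at *
  exact tri hA2 hzz hz3 hp

end Lift

end CfsgLib.LyMult
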