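import Cfsg.Agent.LyG2.Rep.Check
import Cfsg.Agent.LyG2.Rep.Subst

/-!
Words of the Lyons group used for the triviality of its multiplier (letters as in `Rep.words`:
`a A b B c C d D z Z`), and the identities between them, checked in degree 111.
-/

set_option autoImplicit false
set_option maxRecDepth 100000

namespace CfsgLib.LyMult

open CfsgLib.LyG2 CfsgLib.LyG2.Rep Cfsg.Spor

/-- The inverse of a word. -/
def inw (w : List ℕ) : List ℕ := (w.map iv).reverse

/-- A power of a word. -/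
def pw (n : ℕ) (w : List ℕ) : List ℕ := (List.replicate n w).flatten

/-- Generators of the stabilizer of a coset in the short suborbit. -/
def kg : ℕ → List ℕ
  | 0 => [4]
  | 1 => [1, 4, 0]
  | 2 => [3, 4, 2]
  | 3 => [2, 4, 3]
  | 4 => [0]
  | 5 => [2, 0, 3]
  | _ => [2, 2, 0, 3, 3]

/-- Their conjugates by `z`. -/
def ph : ℕ → List ℕ
  | 0 => [1, 3, 1, 2, 5, 3, 0, 5, 2, 0]
  | 1 => [3, 3, 0, 4, 1, 2, 4, 2]
  | 2 => [1, 3, 1, 4, 0, 2, 0]
  | 3 => [3, 1, 2, 4, 3, 0, 2]
  | 4 => [1, 1, 1]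
  | 5 => [2, 1, 3, 1, 1]
  | _ => [0, 2, 2, 0, 3, 3, 1]

/-- A product of generators and inverses. -/
def kw (f : ℕ → List ℕ) (l : List (ℕ × Bool)) : List ℕ :=
  l.flatMap fun p => bif p.2 then f p.1 else inw (f p.1)

/-- A representative of a suborbit point. -/
def e83 : List ℕ := [7, 4, 1, 2, 4, 6, 0, 2]

/-- Left over part of the representative. -/
def k83 : List ℕ := [1, 1, 5, 6, 2, 4, 3, 5, 2, 4, 2, 5, 2, 1, 6, 4, 0, 6, 2, 7, 2, 0, 3, 1]

/-- The middle element of the triangle relation. -/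
def k0 : List ℕ := [1, 5, 7, 0, 5, 3, 0, 5, 7, 1, 5, 0, 4, 3, 3, 5, 3, 1, 3, 3, 0, 4, 4, 1, 6, 3, 5, 1, 2, 5, 7, 2, 5, 3, 1, 5, 0, 3, 0, 2, 0, 3]

/-- An element of the stabilizer. -/
def jIx : List (ℕ × Bool) := [(5, true), (4, true)]

/-- An element of the stabilizer. -/
def m1Ix : List (ℕ × Bool) := [(1, false), (4, true)]

/-- An element of the stabilizer. -/
def mpIx : List (ℕ × Bool) := [(0, false), (2, true), (0, false), (1, false), (0, true), (1, true), (6, true), (4, true), (6, true)]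

/-- An element of the stabilizer. -/
def xIx : List (ℕ × Bool) := [(1, true), (1, true), (2, false), (2, false), (3, false), (1, false), (0, false), (1, true), (0, true), (4, true), (4, true), (5, true), (4, true), (6, true)]

/-- Conjugator inside the subgroup for relator 78. -/
def k78 : List ℕ := [3, 0, 6, 1, 7, 7, 7, 3, 3, 1, 3, 1, 3, 1, 2, 1]

/-- Centraliser element for relator 78. -/
def c78 : List ℕ := [7, 7, 1]

/-- Conjugator inside the subgroup for relator 79. -/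
def k79 : List ℕ := [3, 0, 2]

/-- Centraliser element for relator 79. -/
def c79 : List ℕ := [1, 1]

/-- Conjugator inside the subgroup for relator 80. -/
def k80 : List ℕ := [0, 4, 6, 6, 4, 6, 2, 6, 6, 3, 6]

/-- Centraliser element for relator 80. -/
def c80 : List ℕ := [7, 0, 3, 7, 1, 2]

/-- Conjugator inside the subgroup for relator 84. -/
def k84 : List ℕ := [7]

/-- Centraliser element for relator 84. -/
def c84 : List ℕ := [0, 3, 1, 2, 0, 3, 6, 3, 3, 0]

/-- Conjugator inside the subgroup for relator 86. -/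
def k86 : List ℕ := [7, 2, 2, 0, 3, 1, 1, 6, 6, 1]

/-- Centraliser element for relator 86. -/
def c86 : List ℕ := [0, 4, 3, 5, 1, 5, 7, 2, 4, 2, 4, 6, 0, 7, 2, 4, 2, 5, 0]

/-- Conjugator inside the subgroup for relator 85. -/
def k85 : List ℕ := [6, 5, 1, 1, 5, 6, 0, 7, 2, 5, 7, 4, 4, 7, 4, 6, 2]

/-- Centraliser element for relator 85. -/
def c85 : List ℕ := [1, 7, 4, 7, 0]

/-- An element of order three. -/
def a85 : List ℕ := [0, 7, 4, 1, 6, 6, 5, 1, 1, 7, 0, 4, 3, 6, 6, 1, 5, 7, 0, 4, 3, 4, 1, 7, 5, 3, 4, 1, 4, 6, 3, 0, 6, 4, 3, 7, 4, 2]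

/-- Image of the involution for relator 85. -/
def h85 : List ℕ := [5, 3, 3, 6, 1, 4, 6, 1, 6, 5, 6, 1, 4, 0, 3, 1, 5, 1, 4, 0, 6, 1, 4, 2, 1, 1, 6]

/-- The word of `c2`. -/
def w_c2 : List ℕ := genWord .c2

/-- The word of `c3`. -/
def w_c3 : List ℕ := genWord .c3

/-- The word of `c4`. -/
def w_c4 : List ℕ := genWord .c4

/-- The word of `c5`. -/
def w_c5 : List ℕ := genWord .c5

/-- The word of `a2`. -/
def w_a2 : List ℕ := genWord .a2

/-- The word of `a3`. -/
def w_a3 : List ℕ := genWord .a3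

/-- The word of `a4`. -/
def w_a4 : List ℕ := genWord .a4

/-- The word of `x25`. -/
def w_x25 : List ℕ := genWord .x25

/-- The word of `x29`. -/
def w_x29 : List ℕ := genWord .x29

/-- The word of `x47`. -/
def w_x47 : List ℕ := genWord .x47

/-- The word of `x96`. -/
def w_x96 : List ℕ := genWord .x96

/-- The word of `x129`. -/
def w_x129 : List ℕ := genWord .x129

/-- The word of `x162`. -/
def w_x162 : List ℕ := genWord .x162

/-- The word of `x163`. -/
def w_x163 : List ℕ := genWord .x163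

/-- The word of `x164`. -/
def w_x164 : List ℕ := genWord .x164

/-- The word of `x165`. -/
def w_x165 : List ℕ := genWord .x165

/-- The word of `x166`. -/
def w_x166 : List ℕ := genWord .x166

/-- The word of `x167`. -/
def w_x167 : List ℕ := genWord .x167

/-- The word of `x168`. -/
def w_x168 : List ℕ := genWord .x168

/-- The word of `x169`. -/
def w_x169 : List ℕ := genWord .x169

/-- The word of `x364`. -/
def w_x364 : List ℕ := genWord .x364

/-- The word of `x365`. -/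
def w_x365 : List ℕ := genWord .x365

/-- The word of `x366`. -/
def w_x366 : List ℕ := genWord .x366

/-- The word of `x367`. -/
def w_x367 : List ℕ := genWord .x367

/-- The word of `x368`. -/
def w_x368 : List ℕ := genWord .x368

/-- The word of `x369`. -/
def w_x369 : List ℕ := genWord .x369

/-- The word of `x370`. -/
def w_x370 : List ℕ := genWord .x370

/-- The word of `x371`. -/
def w_x371 : List ℕ := genWord .x371

/-- Conjugating element of relator 83. -/
def y83 : List ℕ := [8] ++ w_x364 ++ inw (kw kg jIx) ++ inw w_a4 ++ [9]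

/-- Conjugated element of relator 83. -/
def h83 : List ℕ := [1, 1, 1, 1, 1, 1] ++ inw w_a4 ++ [0, 0] ++ kw ph mpIx ++ [1, 1]

/-- Its image. -/
def p83 : List ℕ := inw w_x47 ++ kw ph m1Ix ++ [1, 1]

/-- Conjugating element of relator 84. -/
def y84 : List ℕ := [9, 7, 9]

/-- Conjugating element of relator 85. -/
def y85 : List ℕ := [8] ++ w_x366 ++ [8]

/-- The involution of relator 85. -/
def t85 : List ℕ := w_x365 ++ a85

/-- Conjugating element of relator 86. -/
def y86 : List ℕ := [8] ++ w_x96 ++ [8]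

/-- The identities for relator 78. -/
def cert78 : List (List ℕ) :=
  [[9] ++ [0] ++ inw [9] ++ inw w_x167, k78 ++ [0] ++ inw k78 ++ inw w_x167, c78 ++ [0] ++ inw c78 ++ inw [0],
    pw 3 (c78 ++ inw k78 ++ [9]), pw 8 [0]]

/-- The identities for relator 79. -/
def cert79 : List (List ℕ) :=
  [[9] ++ w_a2 ++ inw [9] ++ inw w_x168, k79 ++ w_a2 ++ inw k79 ++ inw w_x168, c79 ++ w_a2 ++ inw c79 ++ inw w_a2,
    pw 3 (c79 ++ inw k79 ++ [9]), pw 8 w_a2]

/-- The identities for relator 80. -/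
def cert80 : List (List ℕ) :=
  [[9] ++ w_a3 ++ inw [9] ++ inw w_x169, k80 ++ w_a3 ++ inw k80 ++ inw w_x169, c80 ++ w_a3 ++ inw c80 ++ inw w_a3,
    pw 3 (c80 ++ inw k80 ++ [9]), pw 8 w_a3]

/-- The identities for relator 84. -/
def cert84 : List (List ℕ) :=
  [y84 ++ w_x369 ++ inw y84 ++ inw (inw w_x29), k84 ++ w_x369 ++ inw k84 ++ inw (inw w_x29), c84 ++ w_x369 ++ inw c84 ++ inw w_x369,
    pw 2 (c84 ++ inw k84 ++ y84), pw 3 w_x369]

/-- The identities for relator 86. -/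
def cert86 : List (List ℕ) :=
  [y86 ++ w_x25 ++ inw y86 ++ inw (inw w_x371), k86 ++ w_x25 ++ inw k86 ++ inw (inw w_x371), c86 ++ w_x25 ++ inw c86 ++ inw w_x25,
    pw 7 (c86 ++ inw k86 ++ y86), pw 4 w_x25]

/-- The identities for relator 85. -/
def cert85 : List (List ℕ) :=
  [y85 ++ t85 ++ inw y85 ++ inw h85, k85 ++ t85 ++ inw k85 ++ inw h85, c85 ++ t85 ++ inw c85 ++ inw t85,
    pw 3 (c85 ++ inw k85 ++ y85), pw 2 t85]

/-- The identities for relators 73 to 77. -/
def certC : List (List ℕ) :=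
  [[9] ++ [4] ++ inw [9] ++ inw w_x162, [9] ++ w_c2 ++ inw [9] ++ inw w_x163, [9] ++ w_c3 ++ inw [9] ++ inw w_x164, [9] ++ w_c4 ++ inw [9] ++ inw w_x165, [9] ++ w_c5 ++ inw [9] ++ inw w_x166,
    pw 5 [4], pw 5 w_c3, pw 5 w_x162, pw 5 w_x164,
    w_x163 ++ inw (inw w_x167 ++ w_x162 ++ w_x167),
    [1] ++ w_c2 ++ [0] ++ inw (inw [4] ++ inw [4]),
    inw w_x167 ++ w_x163 ++ w_x167 ++ inw (inw w_x162 ++ inw w_x162),
    w_x166 ++ inw (inw w_x162 ++ inw w_x163 ++ w_x162 ++ w_x163),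
    [1] ++ w_c3 ++ [0] ++ inw (inw w_c3 ++ inw w_c3 ++ [4] ++ w_c4),
    inw w_x167 ++ w_x164 ++ w_x167 ++ inw (inw w_x164 ++ inw w_x164 ++ w_x162 ++ w_x165),
    [1] ++ w_c4 ++ [0] ++ inw ([4] ++ inw w_c2 ++ inw w_c3 ++ w_c4 ++ [4] ++ w_c4),
    inw w_x167 ++ w_x165 ++ w_x167 ++
      inw (w_x162 ++ inw w_x163 ++ inw w_x164 ++ w_x165 ++ w_x162 ++ w_x165)]

/-- The other identities. -/
def certM : List (List ℕ) :=
  [[8, 8, 1, 1], w_a4 ++ [8] ++ w_a4 ++ [8] ++ w_a4 ++ [8] ++ [0, 0], w_a4 ++ w_a4 ++ inw [0, 0],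
    pw 8 [0], w_x167 ++ w_x167 ++ inw [1, 1, 1, 1, 1, 1],
    y85 ++ w_x365 ++ inw y85 ++ inw (inw w_x370), pw 8 w_x365, pw 8 (inw w_x370), pw 3 a85,
    pw 3 (inw (inw w_x370) ++ h85), w_x367 ++ w_x366,
    y83 ++ inw (e83 ++ [8] ++ k83), k83 ++ h83 ++ inw k83 ++ inw (kw kg xIx),
    e83 ++ [0, 0] ++ kw ph xIx ++ inw [0, 0] ++ inw e83 ++ inw p83,
    kw kg mpIx ++ inw (w_a4 ++ kw ph jIx ++ k0 ++ inw (kw kg jIx) ++ inw w_a4),
    kw kg m1Ix ++ inw (inw w_x368 ++ k0 ++ inw w_x364)]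

/-- All identities. -/
def certs : List (List ℕ) :=
  cert78 ++ cert79 ++ cert80 ++ cert84 ++ cert85 ++ cert86 ++ certC ++ certM

theorem certs_lt : certs.all (fun w => w.all fun x => Nat.blt x 10) = true := by decide +kernel

end CfsgLib.LyMult
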