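import Cfsg.Agent.LyG2.Main
import Cfsg.Agent.LyMult.Check1
import Cfsg.Agent.LyMult.Check2
import Cfsg.Agent.LyMult.Check3
import Cfsg.Agent.LyMult.Check4
import Cfsg.Agent.LyMult.Check5
import Cfsg.Agent.LyMult.Check6

/-!
The word identities hold in `Ly` once it is simple, and lifts of words to a central extension with a
section over `⟨a, b, c, d⟩`.
-/

set_option autoImplicit false
set_option maxRecDepth 100000

namespace CfsgLib.LyMult

open CfsgLib.CosetEnum CfsgLib.LyG2 Cfsg.Spor

/-- The five generators. -/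
def gen5 (i : Fin 5) : Ly.Gen :=
  match i.val with
  | 0 => .a
  | 1 => .b
  | 2 => .c
  | 3 => .d
  | _ => .z

/-- The five generators inside `Ly`. -/
def gLy (i : ℕ) : Cfsg.Spor.Ly := PresentedGroup.of (gen5 (Fin.ofNat 5 i))

theorem chkWords_append (a b : List (List ℕ)) :
    chkWords 111 Rep.tabs (a ++ b) = (chkWords 111 Rep.tabs a && chkWords 111 Rep.tabs b) := by
  simp only [chkWords, force_eq, List.all_append]

theorem certs_ok : chkWords 111 Rep.tabs certs = true := by
  have hM : chkWords 111 Rep.tabs certM = true := by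
    conv_lhs => rw [← List.take_append_drop 10 certM]
    rw [chkWords_append, certMa_ok, certMb_ok]
    rfl
  rw [certs, chkWords_append, chkWords_append, chkWords_append, chkWords_append, chkWords_append,
    chkWords_append, chkWords_append, cert78_ok, cert79_ok, cert80_ok, cert84_ok, cert85_ok,
    cert86_ok, certC_ok, hM]
  rfl

theorem hom_gLy (i : ℕ) : Rep.hom (gLy i) = Rep.unitOf (Fin.ofNat 5 i) := by
  rw [gLy, Rep.hom, PresentedGroup.toGroup.of, Rep.image]
  generalize Fin.ofNat 5 i = j
  fin_cases j <;>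
    · rw [prodw]
      simp only [gen5, Rep.genWord, List.map_cons, List.map_nil, List.prod_cons, List.prod_nil,
        mul_one]
      rw [Rep.letter, lv_eq]
      rfl

theorem hom_word (w : List ℕ) : Rep.hom (prodw (lv gLy) w) = prodw Rep.letter w := by
  simp only [prodw, map_list_prod, List.map_map]
  congr 1
  refine List.map_congr_left fun x _ => ?_
  show Rep.hom (lv gLy x) = Rep.letter x
  rw [map_lv, Rep.letter]
  simp only [hom_gLy]

theorem hom_injective [IsSimpleGroup Cfsg.Spor.Ly] : Function.Injective Rep.hom := by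
  rcases Rep.hom.normal_ker.eq_bot_or_eq_top with h | h
  · exact (MonoidHom.ker_eq_bot_iff _).1 h
  · refine absurd ?_ Rep.mat_a
    have h1 : Rep.hom (gLy 0) = 1 := by
      rw [← MonoidHom.mem_ker, h]; exact Subgroup.mem_top _
    rw [hom_gLy] at h1
    have h2 := congrArg
      (fun u : GL (Fin 111) (ZMod 5) => (u : Matrix (Fin 111) (Fin 111) (ZMod 5)) 0 0) h1
    simpa [Rep.unitOf] using h2

/-- A certified word is trivial in `Ly`. -/
theorem cert_one [IsSimpleGroup Cfsg.Spor.Ly] {w : List ℕ} (hm : w ∈ certs) :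
    prodw (lv gLy) w = 1 := by
  refine hom_injective ?_
  rw [hom_word, map_one]
  refine Units.ext ?_
  rw [Rep.coe_prodw fun x hx =>
    Nat.le_of_ble_eq_true (List.all_eq_true.1 (List.all_eq_true.1 certs_lt w hm) x hx)]
  exact Rep.word_one certs_ok certs_lt hm

/-! ### Words in a group -/

section Words

variable {G : Type*} [Group G] (v : ℕ → G)

theorem prodw_inw (w : List ℕ) : prodw (lv v) (inw w) = (prodw (lv v) w)⁻¹ := by
  induction w with
  | nil => simp [inw, prodw]
  | cons x w ih =>
    rw [prodw_cons, mul_inv_rev, ← ih, inw, List.map_cons, List.reverse_cons, prodw_append]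
    rw [show prodw (lv v) [iv x] = (lv v x)⁻¹ by rw [prodw_cons, prodw_nil, mul_one, lv_iv]]
    rfl

theorem prodw_pw (n : ℕ) (w : List ℕ) : prodw (lv v) (pw n w) = prodw (lv v) w ^ n := by
  induction n with
  | zero => simp [pw, prodw]
  | succ n ih => rw [pw, List.replicate_succ, List.flatten_cons, prodw_append, ← pw, ih, pow_succ']

end Words

/-- Words in `a, b, c, d` only. -/
def low (w : List ℕ) : Bool := w.all fun x => Nat.blt x 8

/-- Lifts of the generators to a central extension, exact over `⟨a, b, c, d⟩`. -/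
structure Lift (Γ : Type*) [Group Γ] where
  /-- The projection. -/
  σ : Γ →* Cfsg.Spor.Ly
  central : σ.ker ≤ Subgroup.center Γ
  /-- The lifts. -/
  f : Fin 5 → Γ
  σf : ∀ i : Fin 5, σ (f i) = gLy i.val
  /-- The lift of the subgroup. -/
  R : Subgroup Γ
  inj : ∀ r ∈ R, σ r = 1 → r = 1
  mem : ∀ i : Fin 5, i.val < 4 → f i ∈ R

namespace Lift

variable {Γ : Type*} [Group Γ] (L : Lift Γ)

/-- The value of a word. -/
def E (w : List ℕ) : Γ := prodw (lv fun i => L.f (Fin.ofNat 5 i)) w

theorem E_nil : L.E [] = 1 := prodw_nil _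

theorem E_append (u w : List ℕ) : L.E (u ++ w) = L.E u * L.E w := prodw_append _ _ _

theorem E_cons (x : ℕ) (w : List ℕ) : L.E (x :: w) = L.E [x] * L.E w := L.E_append [x] w

theorem E_inw (w : List ℕ) : L.E (inw w) = (L.E w)⁻¹ := prodw_inw _ _

theorem E_pw (n : ℕ) (w : List ℕ) : L.E (pw n w) = L.E w ^ n := prodw_pw _ _ _

theorem σ_E (w : List ℕ) : L.σ (L.E w) = prodw (lv gLy) w := by
  simp only [E, prodw, map_list_prod, List.map_map]
  congr 1
  refine List.map_congr_left fun x _ => ?_
  show L.σ (lv _ x) = lv gLy x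
  rw [map_lv]
  simp only [L.σf, gLy, Fin.val_ofNat]
  congr 1
  funext i
  rw [show Fin.ofNat 5 (i % 5) = Fin.ofNat 5 i from Fin.ext (by simp)]
  rfl

theorem E_mem {w : List ℕ} (hw : low w = true) : L.E w ∈ L.R := by
  induction w with
  | nil => rw [E_nil]; exact one_mem _
  | cons x w ih =>
    rw [low, List.all_cons, Bool.and_eq_true] at hw
    have hx : x < 8 := Nat.le_of_ble_eq_true hw.1
    rw [E_cons]
    refine mul_mem ?_ (ih hw.2)
    rw [E, prodw_cons, prodw_nil, mul_one, lv_eq]
    have hm : L.f (Fin.ofNat 5 (x / 2)) ∈ L.R := L.mem _ (by rw [Fin.val_ofNat]; omega)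
    split
    · exact hm
    · exact inv_mem hm

variable [IsSimpleGroup Cfsg.Spor.Ly]

theorem mem_center_of_cert {w : List ℕ} (hm : w ∈ certs) : L.E w ∈ Subgroup.center Γ :=
  L.central (by rw [MonoidHom.mem_ker, σ_E]; exact cert_one hm)

/-- A certified word in `a, b, c, d` is trivial. -/
theorem eq_one_of_low {w : List ℕ} (hl : low w = true) (hm : w ∈ certs) : L.E w = 1 :=
  L.inj _ (L.E_mem hl) (by rw [σ_E]; exact cert_one hm)

theorem eq_of_low {u v : List ℕ} (hl : low (u ++ inw v) = true) (hm : u ++ inw v ∈ certs) :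
    L.E u = L.E v := by
  have h := L.eq_one_of_low hl hm
  rwa [E_append, E_inw, mul_inv_eq_one] at h

theorem conj_of_low {u x p : List ℕ} (hl : low (u ++ x ++ inw u ++ inw p) = true)
    (hm : u ++ x ++ inw u ++ inw p ∈ certs) : L.E u * L.E x * (L.E u)⁻¹ = L.E p := by
  have h := L.eq_of_low (u := u ++ x ++ inw u) hl hm
  rwa [E_append, E_append, E_inw] at h

/-- The central defect of a certified conjugation. -/
theorem defect {Y h p : List ℕ} (hm : Y ++ h ++ inw Y ++ inw p ∈ certs) :
    ∃ ζ ∈ Subgroup.center Γ, L.E Y * L.E h * (L.E Y)⁻¹ = L.E p * ζ := by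
  have h1 := L.mem_center_of_cert hm
  rw [E_append, E_append, E_append, E_inw, E_inw] at h1
  refine ⟨_, h1, ?_⟩
  rw [Subgroup.mem_center_iff.1 h1 (L.E p), inv_mul_cancel_right]

end Lift

end CfsgLib.LyMult
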