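import Cfsg.Agent.LyMult.Conj
import Cfsg.Agent.S2100
import Cfsg.Agent.Schur.CoverBound
import Cfsg.Agent.Schur.Basic
import Cfsg.Agent.SchurBound.Basic

/-!
The Schur multiplier of `Ly` is trivial: a stem extension splits, by lifting `⟨a, b, c, d⟩ ≅ G₂(5)`,
whose multiplier is trivial, and correcting the lift of `z`.
-/

set_option autoImplicit false
set_option maxRecDepth 100000
set_option linter.style.haveILetI false

namespace CfsgLib.LyMult

open CfsgLib.CosetEnum CfsgLib.LyG2 Cfsg.Spor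

namespace Lift

variable {Γ : Type*} [Group Γ] (L : Lift Γ)

/-- The lift of a word in the 39 generators. -/
def phi : FreeGroup Ly.Gen →* Γ := FreeGroup.lift fun g => L.E (Rep.genWord g)

theorem phi_fl5 (w : List ℕ) : FreeGroup.lift L.f (prodw Rep.fl5 w) = L.E w := by
  simp only [E, prodw, map_list_prod, List.map_map]
  congr 1
  refine List.map_congr_left fun x _ => ?_
  show FreeGroup.lift L.f (Rep.fl5 x) = _
  rw [Rep.fl5, map_lv]
  simp only [FreeGroup.lift_apply_of]

theorem phi_eq : L.phi = (FreeGroup.lift L.f).comp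
    (FreeGroup.lift fun g => prodw Rep.fl5 (Rep.genWord g)) := by
  refine FreeGroup.ext_hom _ _ fun g => ?_
  rw [phi, FreeGroup.lift_apply_of, MonoidHom.comp_apply, FreeGroup.lift_apply_of, phi_fl5]

theorem words_low : (Rep.words.take 72).all low = true := by decide +kernel

variable [IsSimpleGroup Cfsg.Spor.Ly]

theorem rels_low {r : FreeGroup Ly.Gen} (hr : r ∈ Ly.extra.take 72) : L.phi r = 1 := by
  have hm := List.mem_map_of_mem
    (f := FreeGroup.lift fun g => prodw Rep.fl5 (Rep.genWord g)) hr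
  rw [List.map_take, Rep.extra_eq, ← List.map_take] at hm
  obtain ⟨w, hw, e⟩ := List.mem_map.1 hm
  rw [phi_eq, MonoidHom.comp_apply, ← e, phi_fl5]
  refine L.inj _ (L.E_mem (List.all_eq_true.1 words_low w hw)) (hom_injective ?_)
  rw [σ_E, hom_word, Rep.words_one (List.mem_of_mem_take hw), map_one]

theorem rels_z (hL : L.om1 = L.om2) {r : FreeGroup Ly.Gen} (hr : r ∈ Ly.extra.drop 72) :
    L.phi r = 1 := by
  obtain ⟨hzz, hz3⟩ := L.z_relators hL
  obtain ⟨h73, h74, h75, h76, h77⟩ := L.conj_c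
  have h78 := L.conj78
  have h79 := L.conj79
  have h80 := L.conj80
  have h84 := L.conj84
  have h85 := L.conj85
  have h86 := L.conj86
  rw [show y84 = [9] ++ [7] ++ [9] from rfl] at h84
  rw [show y85 = [8] ++ w_x366 ++ [8] from rfl] at h85
  rw [show y86 = [8] ++ w_x96 ++ [8] from rfl] at h86
  have h367 := L.eq_one_of_low (w := w_x367 ++ w_x366) (by decide +kernel) (by simp [certs, certM])
  rw [E_append, mul_eq_one_iff_eq_inv] at h367
  have e29 : L.E [7] = (L.E [6])⁻¹ := by rw [← L.E_inw [6]]; rfl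
  have e129 : L.E w_x129 = (L.E w_x96)⁻¹ := by rw [← L.E_inw w_x96]; rfl
  simp only [E_append, E9, E8, inv_inv, e29] at h73 h74 h75 h76 h77 h79 h80 h84 h85 h86
  simp only [List.mem_cons, List.not_mem_nil, or_false, Ly.extra, List.drop_succ_cons,
    List.drop_zero] at hr
  rcases hr with rfl | rfl | rfl | rfl | rfl | rfl | rfl | rfl | rfl | rfl | rfl | rfl | rfl | rfl <;>
    simp only [phi, map_mul, map_inv, map_pow, FreeGroup.lift_apply_of] <;>
    simp only [show Rep.genWord .c1 = [4] from rfl, show Rep.genWord .a1 = [0] from rfl,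
      show Rep.genWord .z = [8] from rfl, show Rep.genWord .x23 = [6] from rfl,
      show Rep.genWord .x24 = [7] from rfl, show Rep.genWord .u = [0, 0] from rfl,
      show Rep.genWord .c2 = w_c2 from rfl, show Rep.genWord .c3 = w_c3 from rfl,
      show Rep.genWord .c4 = w_c4 from rfl, show Rep.genWord .c5 = w_c5 from rfl,
      show Rep.genWord .a2 = w_a2 from rfl, show Rep.genWord .a3 = w_a3 from rfl,
      show Rep.genWord .a4 = w_a4 from rfl, show Rep.genWord .x25 = w_x25 from rfl,
      show Rep.genWord .x29 = w_x29 from rfl, show Rep.genWord .x47 = w_x47 from rfl,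
      show Rep.genWord .x96 = w_x96 from rfl, show Rep.genWord .x129 = w_x129 from rfl,
      show Rep.genWord .x162 = w_x162 from rfl, show Rep.genWord .x163 = w_x163 from rfl,
      show Rep.genWord .x164 = w_x164 from rfl, show Rep.genWord .x165 = w_x165 from rfl,
      show Rep.genWord .x166 = w_x166 from rfl, show Rep.genWord .x167 = w_x167 from rfl,
      show Rep.genWord .x168 = w_x168 from rfl, show Rep.genWord .x169 = w_x169 from rfl,
      show Rep.genWord .x364 = w_x364 from rfl, show Rep.genWord .x365 = w_x365 from rfl,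
      show Rep.genWord .x366 = w_x366 from rfl, show Rep.genWord .x367 = w_x367 from rfl,
      show Rep.genWord .x368 = w_x368 from rfl, show Rep.genWord .x369 = w_x369 from rfl,
      show Rep.genWord .x370 = w_x370 from rfl, show Rep.genWord .x371 = w_x371 from rfl,
      E8, E0, E00, e29]
  · rw [h73, mul_inv_cancel]
  · rw [h74, mul_inv_cancel]
  · rw [h75, mul_inv_cancel]
  · rw [h76, mul_inv_cancel]
  · rw [h77, mul_inv_cancel]
  · rw [h78, mul_inv_cancel]
  · rw [h79, mul_inv_cancel]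
  · rw [h80, mul_inv_cancel]
  · rw [pow_two, hzz, mul_inv_cancel]
  · exact hz3
  · exact L.rel83 hL
  · rw [mul_eq_one_iff_eq_inv, ← h84]; group
  · rw [mul_eq_one_iff_eq_inv, ← h85, h367]; group
  · rw [mul_eq_one_iff_eq_inv, ← h86, e129]; group

theorem rels_ok (hL : L.om1 = L.om2) :
    ∀ r ∈ coxRelators Ly.edges ∪ {r | r ∈ Ly.extra},
      FreeGroup.lift (fun g => L.E (Rep.genWord g)) r = 1 := by
  rintro r (⟨p, ha, q, -, rfl⟩ | hr)
  · exact absurd ha (by simp [Ly.edges, coxNodes])
  · rw [← List.take_append_drop 72 Ly.extra] at hr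
    rcases List.mem_append.1 hr with h | h
    · exact L.rels_low h
    · exact L.rels_z hL h

end Lift

section Section

variable [Finite Cfsg.Spor.Ly] [IsSimpleGroup Cfsg.Spor.Ly]

/-- The subgroup on `a, b, c, d`. -/
abbrev H0 : Subgroup Cfsg.Spor.Ly := (Subgroup.closure LyG2.abcd).map LyG2.toLy

omit [Finite Cfsg.Spor.Ly] [IsSimpleGroup Cfsg.Spor.Ly] in
theorem isPerfect_G25 : Group.IsPerfect G14.G25 := by
  haveI := G14.isSimple
  have hn : (commutator G14.G25).Normal := inferInstance
  rcases hn.eq_bot_or_eq_top with h | h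
  · exfalso
    letI : CommGroup G14.G25 :=
      { (inferInstance : Group G14.G25) with
        mul_comm := fun a b => commutatorElement_eq_one_iff_mul_comm.1 (Subgroup.mem_bot.1
          (h ▸ Subgroup.commutator_mem_commutator (Subgroup.mem_top a) (Subgroup.mem_top b))) }
    have hp := IsSimpleGroup.prime_card (α := G14.G25)
    rw [G14.card_target] at hp
    norm_num at hp
  · exact Group.isPerfect_def.2 h

theorem exists_lift {Γ : Type} [Group Γ] [Finite Γ] (σ : Γ →* Cfsg.Spor.Ly)
    (hσ : Cfsg.IsStemExtension σ) : ∃ L : Lift Γ, L.σ = σ := by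
  classical
  obtain ⟨e⟩ := LyG2.nonempty_equiv_sub
  have hperf : Group.IsPerfect H0 := by
    haveI := isPerfect_G25
    exact Group.IsPerfect.ofSurjective (f := e.symm.toMonoidHom) e.symm.surjective
  have hmult : Cfsg.HasSchurMultiplier H0 (Multiplicative (ZMod 1)) :=
    SchurBound.hasSchurMultiplier_congr e.symm
      (Cfsg.Agent.S2100.result (F := ZMod 5) (by simp))
  let τ : (H0.comap σ) →* H0 := σ.subgroupComap H0
  have hτ : Function.Surjective τ := σ.subgroupComap_surjective_of_surjective H0 hσ.1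
  have hτc : τ.ker ≤ Subgroup.center (H0.comap σ) := by
    intro x hx
    have hx' : σ x.1 = 1 := congrArg Subtype.val hx
    rw [Subgroup.mem_center_iff]
    exact fun y => Subtype.ext (Subgroup.mem_center_iff.1 (hσ.2.1 hx') y.1)
  obtain ⟨π, hπ⟩ := hmult.2 _ _ (Schur.isStemExtension_derived τ hτ hτc hperf)
  haveI : Subsingleton (Multiplicative (ZMod 1)) := Equiv.subsingleton Multiplicative.toAdd
  haveI hsub : Subsingleton (τ.comp (commutator (H0.comap σ)).subtype).ker := hπ.subsingleton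
  let R : Subgroup Γ := (commutator (H0.comap σ)).map (H0.comap σ).subtype
  have hinj : ∀ r ∈ R, σ r = 1 → r = 1 := by
    rintro _ ⟨x, hx, rfl⟩ h
    have hk : (⟨x, hx⟩ : commutator (H0.comap σ)) ∈ (τ.comp (commutator (H0.comap σ)).subtype).ker :=
      Subtype.ext h
    have := hsub.elim ⟨⟨x, hx⟩, hk⟩ 1
    exact congrArg (fun t => ((t.1).1).1) this
  have hlift : ∀ h ∈ H0, ∃ r ∈ R, σ r = h := by
    intro h hh
    obtain ⟨x, hx⟩ := (Schur.isStemExtension_derived τ hτ hτc hperf).1 ⟨h, hh⟩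
    exact ⟨x.1.1, ⟨x.1, x.2, rfl⟩, congrArg Subtype.val hx⟩
  have hg : ∀ i : Fin 5, ∃ y : Γ, σ y = gLy i.val ∧ (i.val < 4 → y ∈ R) := by
    intro i
    by_cases hi : i.val < 4
    · have hm : gLy i.val ∈ H0 := by
        refine ⟨FreeGroup.of (gen5 (Fin.ofNat 5 i.val)), Subgroup.subset_closure ?_, rfl⟩
        fin_cases i <;> simp_all [gen5, LyG2.abcd]
      obtain ⟨r, hr, e'⟩ := hlift _ hm
      exact ⟨r, e', fun _ => hr⟩
    · obtain ⟨y, hy⟩ := hσ.1 (gLy i.val)
      exact ⟨y, hy, fun h => absurd h hi⟩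
  choose f hf1 hf2 using hg
  exact ⟨⟨σ, hσ.2.1, f, hf1, R, hinj, hf2⟩, rfl⟩

/-- A stem extension of `Ly` has trivial kernel. -/
theorem ker_eq_bot {Γ : Type} [Group Γ] [Finite Γ] (σ : Γ →* Cfsg.Spor.Ly)
    (hσ : Cfsg.IsStemExtension σ) : σ.ker = ⊥ := by
  obtain ⟨L₀, h₀⟩ := exists_lift σ hσ
  obtain ⟨L, hLσ, hL⟩ := L₀.exists_normal
  rw [h₀] at hLσ
  let ψ : Cfsg.Spor.Ly →* Γ := PresentedGroup.toGroup (L.rels_ok hL)
  have hψ : ∀ x, σ (ψ x) = x := by
    have : σ.comp ψ = MonoidHom.id _ := by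
      refine PresentedGroup.ext fun g => ?_
      show σ (ψ (PresentedGroup.of g)) = PresentedGroup.of g
      refine hom_injective ?_
      rw [show ψ (PresentedGroup.of g) = L.E (Rep.genWord g) from PresentedGroup.toGroup.of _,
        ← hLσ, L.σ_E, hom_word]
      exact (PresentedGroup.toGroup.of (h := Rep.rels_ok)).symm
    exact DFunLike.congr_fun this
  have hcomm : commutator Γ ≤ ψ.range := by
    rw [commutator_def, Subgroup.commutator_le]
    intro g _ h _
    have hd : ∀ y : Γ, σ y = σ (ψ (σ y)) := fun y => (hψ _).symm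
    rw [SchurBound.commutator_congr σ hσ.2.1 (hd g) (hd h), ← map_commutatorElement]
    exact ⟨_, rfl⟩
  rw [eq_bot_iff]
  intro k hk
  obtain ⟨x, rfl⟩ := hcomm (hσ.2.2 hk)
  rw [MonoidHom.mem_ker, hψ] at hk
  rw [Subgroup.mem_bot, hk, map_one]

/-- The Schur multiplier of `Ly` is trivial. -/
theorem hasCyclicSchurMultiplier : Cfsg.HasCyclicSchurMultiplier Cfsg.Spor.Ly 1 :=
  Schur.hasCyclicSchurMultiplier_one _ fun _ _ _ _ _ _ σ hσ _ => ker_eq_bot σ hσ

end Section

end CfsgLib.LyMult
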