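import Cfsg.Agent.LyMult.Lift

/-!
The lifts satisfy the relators: the relators 73 to 86 become conjugations whose central defect is
killed by coprime orders.
-/

set_option autoImplicit false
set_option maxRecDepth 100000

namespace CfsgLib.LyMult

open CfsgLib.CosetEnum CfsgLib.LyG2 Cfsg.Spor

/-- A conjugation with central defect is exact if orders of elements kill the defect. -/
theorem crit {G : Type*} [Group G] {Y h p k c ζ : G} {n m : ℕ} (hζ : ζ ∈ Subgroup.center G)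
    (hY : Y * h * Y⁻¹ = p * ζ) (hk : k * h * k⁻¹ = p) (hc : c * h * c⁻¹ = h)
    (hn : (c * k⁻¹ * Y) ^ n ∈ Subgroup.center G) (hm : h ^ m = 1) (hnm : n.Coprime m) :
    Y * h * Y⁻¹ = p := by
  have hz : ∀ x : G, x * ζ = ζ * x := Subgroup.mem_center_iff.1 hζ
  have hzc : ∀ x : G, Commute x ζ := fun x => hz x
  set g := c * k⁻¹ * Y with hgdef
  have hg : g * h * g⁻¹ = h * ζ := by
    calc g * h * g⁻¹ = c * k⁻¹ * (Y * h * Y⁻¹) * k * c⁻¹ := by rw [hgdef]; group
      _ = c * k⁻¹ * p * (ζ * (k * c⁻¹)) := by rw [hY]; group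
      _ = c * k⁻¹ * p * (k * c⁻¹ * ζ) := by rw [hz]
      _ = c * (k⁻¹ * (k * h * k⁻¹) * k) * c⁻¹ * ζ := by rw [hk]; group
      _ = c * h * c⁻¹ * ζ := by group
      _ = h * ζ := by rw [hc]
  have hpow : ∀ j : ℕ, g ^ j * h * (g ^ j)⁻¹ = h * ζ ^ j := by
    intro j
    induction j with
    | zero => simp
    | succ j ih =>
      calc g ^ (j + 1) * h * (g ^ (j + 1))⁻¹ = g * (g ^ j * h * (g ^ j)⁻¹) * g⁻¹ := by
            rw [pow_succ']; group
        _ = g * h * g⁻¹ * ζ ^ j := by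
            rw [ih, mul_assoc g (h * ζ ^ j), mul_assoc h, ((hzc g⁻¹).pow_right j).symm.eq]
            group
        _ = h * ζ ^ (j + 1) := by rw [hg, pow_succ', mul_assoc]
  have h1 : ζ ^ n = 1 := by
    have e := hpow n
    rw [← Subgroup.mem_center_iff.1 hn h, mul_inv_cancel_right] at e
    exact mul_left_cancel (e.symm.trans (mul_one h).symm)
  have h2 : ζ ^ m = 1 := by
    have e := congrArg (· ^ m) hY
    rw [conj_pow, hm, mul_one, mul_inv_cancel, (hzc p).mul_pow, ← hk, conj_pow, hm, mul_one,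
      mul_inv_cancel, one_mul] at e
    exact e.symm
  have h3 : ζ = 1 := by
    have := pow_gcd_eq_one.2 ⟨h1, h2⟩
    rwa [hnm.gcd_eq_one, pow_one] at this
  rw [hY, h3, mul_one]

/-- If `z² = ω u` and `(A z)³ u = ω`, with `A² = u`, then `ω = u⁻⁸`. -/
theorem z_alg {G : Type*} [Group G] {z A u ω : G} (hω : ω ∈ Subgroup.center G)
    (hzz : z * z = ω * u) (hA : A * A = u) (h3 : (A * z) ^ 3 * u = ω) : ω * u ^ 8 = 1 := by
  have hz : ∀ x, Commute ω x := fun x => (Subgroup.mem_center_iff.1 hω x).symm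
  have hAu : Commute A u := by rw [← hA]; exact (Commute.refl A).mul_right (Commute.refl A)
  have hzu : Commute z u := by
    have : u = ω⁻¹ * (z * z) := by rw [hzz, inv_mul_cancel_left]
    rw [this]
    exact (hz z).symm.inv_right.mul_right ((Commute.refl z).mul_right (Commute.refl z))
  have e3 : z * A * z = A⁻¹ * ω * u⁻¹ * z⁻¹ * A⁻¹ := by
    conv_rhs => rw [← h3, pow_succ, pow_two]
    group
  have eg : z * A * z * (z * A)⁻¹ = A⁻¹ * (u ^ 3)⁻¹ := by
    calc z * A * z * (z * A)⁻¹ = z * A * z * A⁻¹ * z⁻¹ := by group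
      _ = A⁻¹ * ω * u⁻¹ * z⁻¹ * (A * A)⁻¹ * z⁻¹ := by rw [e3]; group
      _ = A⁻¹ * ω * u⁻¹ * (z * u * z)⁻¹ := by rw [hA]; group
      _ = A⁻¹ * (ω * u⁻¹) * (u * (ω * u))⁻¹ := by rw [hzu.eq, mul_assoc u, hzz, mul_assoc A⁻¹]
      _ = A⁻¹ * (u⁻¹ * ω) * (ω * (u * u))⁻¹ := by
          rw [(hz u⁻¹).eq, ← mul_assoc u ω, ← (hz u).eq, mul_assoc ω]
      _ = A⁻¹ * u⁻¹ * (ω * (u * u)⁻¹ * ω⁻¹) := by group
      _ = A⁻¹ * (u ^ 3)⁻¹ := by rw [(hz (u * u)⁻¹).eq, mul_inv_cancel_right]; group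
  have e2 : z * A * (z * z) * (z * A)⁻¹ = A⁻¹ * (u ^ 3)⁻¹ * (A⁻¹ * (u ^ 3)⁻¹) := by
    rw [← eg]; group
  have hg : Commute (z * A) u := Commute.mul_left hzu hAu
  rw [hzz, ((hz (z * A)).symm.mul_right hg).eq, mul_inv_cancel_right,
    ← mul_assoc, mul_assoc A⁻¹ (u ^ 3)⁻¹, ← ((hAu.pow_right 3).inv_inv).eq, ← mul_assoc,
    ← mul_inv_rev A A, hA] at e2
  rw [show u ^ 8 = u * u ^ 7 by group, ← mul_assoc, e2]
  group

namespace Lift

variable {Γ : Type*} [Group Γ] (L : Lift Γ)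

theorem E_low_congr (M : Lift Γ) (hσ : M.σ = L.σ) (hR : M.R = L.R) {w : List ℕ}
    (hw : low w = true) : M.E w = L.E w := by
  refine (mul_inv_eq_one.1 (L.inj _ (mul_mem (hR ▸ M.E_mem hw) (inv_mem (L.E_mem hw))) ?_))
  rw [map_mul, map_inv, L.σ_E, ← hσ, M.σ_E, mul_inv_cancel]

theorem E_sing {x : ℕ} : L.E [x] = lv (fun i => L.f (Fin.ofNat 5 i)) x := by
  rw [E, prodw_cons, prodw_nil, mul_one]

theorem E0 : L.E [0] = L.f 0 := by rw [E_sing, lv_eq, if_pos (by norm_num)]; rfl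
theorem E1 : L.E [1] = (L.f 0)⁻¹ := by rw [E_sing, lv_eq, if_neg (by norm_num)]; rfl
theorem E8 : L.E [8] = L.f 4 := by rw [E_sing, lv_eq, if_pos (by norm_num)]; rfl
theorem E9 : L.E [9] = (L.f 4)⁻¹ := by rw [E_sing, lv_eq, if_neg (by norm_num)]; rfl
theorem E00 : L.E [0, 0] = L.f 0 * L.f 0 := by rw [E_cons, E0]
theorem E8811 : L.E [8, 8, 1, 1] = L.f 4 * L.f 4 * ((L.f 0)⁻¹ * (L.f 0)⁻¹) := by
  rw [L.E_cons 8, L.E_cons 8 [1, 1], L.E_cons 1, E8, E1, mul_assoc]
theorem E98 : L.E [8] = (L.E [9])⁻¹ := by rw [E8, E9, inv_inv]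

/-- The value of `z² u⁻¹`. -/
def om1 : Γ := L.f 4 * L.f 4 * ((L.f 0)⁻¹ * (L.f 0)⁻¹)

/-- The value of `(a₄ z)³ u`. -/
def om2 : Γ := (L.E w_a4 * L.f 4) ^ 3 * (L.f 0 * L.f 0)

variable [IsSimpleGroup Cfsg.Spor.Ly]

theorem om1_mem : L.om1 ∈ Subgroup.center Γ := by
  have h := L.mem_center_of_cert (w := [8, 8, 1, 1]) (by simp [certs, certM])
  rwa [E8811] at h

theorem om2_mem : L.om2 ∈ Subgroup.center Γ := by
  have h := L.mem_center_of_cert
    (w := w_a4 ++ [8] ++ w_a4 ++ [8] ++ w_a4 ++ [8] ++ [0, 0]) (by simp [certs, certM])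
  rw [E_append, E_append, E_append, E_append, E_append, E_append, E00, E8] at h
  rw [om2, pow_succ, pow_two]
  simpa only [mul_assoc] using h

/-- Scale the lift of `z` so that both relators at `z` have the same value. -/
theorem exists_normal : ∃ M : Lift Γ, M.σ = L.σ ∧ M.om1 = M.om2 := by
  have h1 := L.om1_mem
  have h2 := L.om2_mem
  set ζ := L.om1 * L.om2⁻¹ with hζ
  have hc : ζ ∈ Subgroup.center Γ := mul_mem h1 (inv_mem h2)
  have hk : L.σ ζ = 1 := by
    have e1 := cert_one (w := [8, 8, 1, 1]) (by simp [certs, certM])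
    have e2 := cert_one (w := w_a4 ++ [8] ++ w_a4 ++ [8] ++ w_a4 ++ [8] ++ [0, 0])
      (by simp [certs, certM])
    rw [← L.σ_E, E8811] at e1
    rw [← L.σ_E, E_append, E_append, E_append, E_append, E_append, E_append, E00, E8] at e2
    rw [hζ, map_mul, map_inv, om1, om2, pow_succ, pow_two]
    simp only [mul_assoc] at e1 e2 ⊢
    rw [e1, e2, inv_one, mul_one]
  let M : Lift Γ :=
    { L with
      f := Function.update L.f 4 (L.f 4 * ζ)
      σf := fun i => by
        by_cases hi : i = 4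
        · subst hi; rw [Function.update_self, map_mul, hk, mul_one, L.σf]
        · rw [Function.update_of_ne hi, L.σf]
      mem := fun i hi => by
        rw [Function.update_of_ne (fun e => by subst e; exact absurd hi (by decide))]
        exact L.mem i hi }
  refine ⟨M, rfl, ?_⟩
  have hA : M.E w_a4 = L.E w_a4 := L.E_low_congr M rfl rfl (by decide +kernel)
  have e0 : M.f 0 = L.f 0 := by
    show Function.update L.f 4 (L.f 4 * ζ) 0 = _
    rw [Function.update_of_ne (by decide)]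
  have e4 : M.f 4 = L.f 4 * ζ := by
    show Function.update L.f 4 (L.f 4 * ζ) 4 = _
    rw [Function.update_self]
  have hz : ∀ x, Commute x ζ := Subgroup.mem_center_iff.1 hc
  have k1 : M.om1 = L.om1 * ζ ^ 2 := by
    rw [om1, om1, e0, e4]
    generalize (L.f 0)⁻¹ * (L.f 0)⁻¹ = U
    rw [pow_two, mul_assoc (L.f 4 * L.f 4) U, ((hz U).mul_right (hz U)).eq]
    simp only [mul_assoc]
    rw [← mul_assoc ζ (L.f 4), ← (hz (L.f 4)).eq, mul_assoc]
  have k2 : M.om2 = L.om2 * ζ ^ 3 := by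
    rw [om2, om2, hA, e0, e4, ← mul_assoc (L.E w_a4), (hz (L.E w_a4 * L.f 4)).mul_pow, mul_assoc,
      ← ((hz _).pow_right 3).eq, ← mul_assoc]
  have hw : Commute L.om1 L.om2⁻¹ := (Subgroup.mem_center_iff.1 h1 _).symm
  rw [k1, k2, hζ]
  calc L.om1 * (L.om1 * L.om2⁻¹) ^ 2
      = L.om2 * L.om2⁻¹ * (L.om1 * (L.om1 * L.om2⁻¹) ^ 2) := by group
    _ = L.om2 * (L.om1 * L.om2⁻¹ * (L.om1 * L.om2⁻¹) ^ 2) := by
        rw [mul_assoc L.om2, ← mul_assoc L.om2⁻¹, ← hw.eq]
    _ = L.om2 * (L.om1 * L.om2⁻¹) ^ 3 := by rw [pow_succ' _ 2]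

/-- A conjugation killed by orders. -/
theorem crit_word {Y h p k c : List ℕ} {n m : ℕ}
    (hl : low (k ++ h ++ inw k ++ inw p) = true ∧ low (c ++ h ++ inw c ++ inw h) = true ∧
      low (pw m h) = true)
    (hY : Y ++ h ++ inw Y ++ inw p ∈ certs) (hk : k ++ h ++ inw k ++ inw p ∈ certs)
    (hc : c ++ h ++ inw c ++ inw h ∈ certs) (hn : pw n (c ++ inw k ++ Y) ∈ certs)
    (hm : pw m h ∈ certs) (hnm : n.Coprime m) : L.E Y * L.E h * (L.E Y)⁻¹ = L.E p := by
  obtain ⟨ζ, hζ, e⟩ := L.defect hY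
  refine crit hζ e (L.conj_of_low hl.1 hk) (L.conj_of_low hl.2.1 hc) ?_ ?_ hnm (k := L.E k) (c := L.E c)
  · have := L.mem_center_of_cert hn
    rwa [E_pw, E_append, E_append, E_inw] at this
  · rw [← E_pw]; exact L.eq_one_of_low hl.2.2 hm

theorem conj78 : (L.f 4)⁻¹ * L.f 0 * L.f 4 = L.E w_x167 := by
  have := L.crit_word (Y := [9]) (h := [0]) (p := w_x167) (k := k78) (c := c78) (n := 3) (m := 8)
    (by decide +kernel) (by simp [certs, cert78]) (by simp [certs, cert78]) (by simp [certs, cert78])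
    (by simp [certs, cert78]) (by simp [certs, cert78]) (by norm_num)
  rwa [E9, E0, inv_inv] at this

theorem conj79 : L.E [9] * L.E w_a2 * (L.E [9])⁻¹ = L.E w_x168 :=
  L.crit_word (Y := [9]) (h := w_a2) (p := w_x168) (k := k79) (c := c79) (n := 3) (m := 8) (by decide +kernel) (by simp [certs, cert79])
    (by simp [certs, cert79]) (by simp [certs, cert79]) (by simp [certs, cert79])
    (by simp [certs, cert79]) (by norm_num)

theorem conj80 : L.E [9] * L.E w_a3 * (L.E [9])⁻¹ = L.E w_x169 :=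
  L.crit_word (Y := [9]) (h := w_a3) (p := w_x169) (k := k80) (c := c80) (n := 3) (m := 8) (by decide +kernel) (by simp [certs, cert80])
    (by simp [certs, cert80]) (by simp [certs, cert80]) (by simp [certs, cert80])
    (by simp [certs, cert80]) (by norm_num)

theorem conj84 : L.E y84 * L.E w_x369 * (L.E y84)⁻¹ = (L.E w_x29)⁻¹ := by
  rw [← L.E_inw w_x29]
  exact L.crit_word (Y := y84) (h := w_x369) (p := inw w_x29) (k := k84) (c := c84) (n := 2) (m := 3) (by decide +kernel)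
    (by simp [certs, cert84]) (by simp [certs, cert84]) (by simp [certs, cert84])
    (by simp [certs, cert84]) (by simp [certs, cert84]) (by norm_num)

theorem conj86 : L.E y86 * L.E w_x25 * (L.E y86)⁻¹ = (L.E w_x371)⁻¹ := by
  rw [← L.E_inw w_x371]
  exact L.crit_word (Y := y86) (h := w_x25) (p := inw w_x371) (k := k86) (c := c86) (n := 7) (m := 4) (by decide +kernel)
    (by simp [certs, cert86]) (by simp [certs, cert86]) (by simp [certs, cert86])
    (by simp [certs, cert86]) (by simp [certs, cert86]) (by norm_num)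

theorem conj85 : L.E y85 * L.E w_x365 * (L.E y85)⁻¹ = (L.E w_x370)⁻¹ := by
  have hD : L.E y85 * L.E t85 * (L.E y85)⁻¹ = L.E h85 :=
    L.crit_word (Y := y85) (h := t85) (p := h85) (k := k85) (c := c85) (n := 3) (m := 2) (by decide +kernel)
      (by simp [certs, cert85]) (by simp [certs, cert85]) (by simp [certs, cert85])
      (by simp [certs, cert85]) (by simp [certs, cert85]) (by norm_num)
  obtain ⟨ω, hω, e⟩ := L.defect (Y := y85) (h := w_x365) (p := inw w_x370) (by simp [certs, certM])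
  have ha : L.E a85 ^ 3 = 1 := by
    rw [← E_pw]; exact L.eq_one_of_low (by decide +kernel) (by simp [certs, certM])
  have hq : L.E (inw (inw w_x370) ++ h85) ^ 3 = 1 := by
    rw [← E_pw]; exact L.eq_one_of_low (by decide +kernel) (by simp [certs, certM])
  have h8 : L.E w_x365 ^ 8 = 1 := by
    rw [← E_pw]; exact L.eq_one_of_low (by decide +kernel) (by simp [certs, certM])
  have h8' : L.E (inw w_x370) ^ 8 = 1 := by
    rw [← E_pw]; exact L.eq_one_of_low (by decide +kernel) (by simp [certs, certM])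
  have hz : ∀ x, Commute x ω := Subgroup.mem_center_iff.1 hω
  have ea : L.E y85 * L.E a85 * (L.E y85)⁻¹ = L.E (inw (inw w_x370) ++ h85) * ω⁻¹ := by
    calc L.E y85 * L.E a85 * (L.E y85)⁻¹
        = (L.E y85 * L.E w_x365 * (L.E y85)⁻¹)⁻¹ * (L.E y85 * L.E t85 * (L.E y85)⁻¹) := by
          rw [t85, E_append]; group
      _ = ω⁻¹ * L.E (inw (inw w_x370) ++ h85) := by
          rw [e, hD, E_append, L.E_inw (inw w_x370)]; group
      _ = _ := ((hz _).inv_right.eq).symm
  have k3 : ω ^ 3 = 1 := by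
    have := congrArg (· ^ 3) ea
    rw [conj_pow, ha, mul_one, mul_inv_cancel, (hz _).inv_right.mul_pow, hq, one_mul, inv_pow] at this
    exact inv_eq_one.1 this.symm
  have k8 : ω ^ 8 = 1 := by
    have := congrArg (· ^ 8) e
    rw [conj_pow, h8, mul_one, mul_inv_cancel, (hz _).mul_pow, h8', one_mul] at this
    exact this.symm
  have h1 : ω = 1 := by
    have := pow_gcd_eq_one.2 ⟨k3, k8⟩
    rwa [show Nat.gcd 3 8 = 1 from rfl, pow_one] at this
  rw [e, h1, mul_one, E_inw]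

variable (hL : L.om1 = L.om2)
include hL

theorem z_relators : L.f 4 * L.f 4 = L.f 0 * L.f 0 ∧
    (L.E w_a4 * L.f 4) ^ 3 * (L.f 0 * L.f 0) = 1 := by
  have h78 := L.conj78
  have hω := L.om1_mem
  have hA2 : L.E w_a4 * L.E w_a4 = L.f 0 * L.f 0 := by
    have := L.eq_of_low (u := w_a4 ++ w_a4) (v := [0, 0]) (by decide +kernel) (by simp [certs, certM])
    rwa [E_append, E00] at this
  have h8 : L.f 0 ^ 8 = 1 := by
    have := L.eq_one_of_low (w := pw 8 [0]) (by decide +kernel) (by simp [certs, certM])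
    rwa [E_pw, E0] at this
  have hx : L.E w_x167 * L.E w_x167 = ((L.f 0 * L.f 0) ^ 3)⁻¹ := by
    have := L.eq_of_low (u := w_x167 ++ w_x167) (v := [1, 1, 1, 1, 1, 1]) (by decide +kernel)
      (by simp [certs, certM])
    rw [E_append, show ([1, 1, 1, 1, 1, 1] : List ℕ) = pw 6 [1] from rfl, E_pw, E1] at this
    rw [this, inv_pow, ← pow_two, ← pow_mul]
  suffices h1 : L.om1 = 1 by
    have h2 : L.om2 = 1 := hL ▸ h1
    rw [om1, ← mul_inv_rev, mul_inv_eq_one] at h1
    exact ⟨h1, h2⟩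
  have e := z_alg hω (z := L.f 4) (A := L.E w_a4) (u := L.f 0 * L.f 0)
    (by rw [om1]; group) hA2 hL.symm
  have hu : (L.f 0 * L.f 0) ^ 8 = 1 := by
    rw [← pow_two, ← pow_mul, show 2 * 8 = 8 * 2 from rfl, pow_mul, h8, one_pow]
  rwa [hu, mul_one] at e

end Lift

end CfsgLib.LyMult
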